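import Cfsg.Agent.H306.Rec.Tools
import Cfsg.Agent.H413.JOneSpec
import Cfsg.Agent.H389.JFacts
import Cfsg.Agent.H564.PSL
import Cfsg.Agent.H94.Sp.AC
import Cfsg.Agent.H548.Crit
import Cfsg.Agent.S2065

/-!
# `J₁` is recognizable by spectrum (helper306)
-/

set_option autoImplicit false
set_option linter.unusedSectionVars false

namespace Cfsg.Agent.H306.Rec.JOne

open Subgroup Cfsg Cfsg.Agent.H58.Rec Cfsg.Agent.H455.Isolated Cfsg.Agent.OrdDiv Cfsg.Agent.H436 Cfsg.Agent.H306.Rec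

universe u w

theorem hasOrd_iff {M : Type w} [Group M] (h : Spor.IsoJ1 M) (n : ℕ) :
    HasOrd M n ↔ n ∈ ({1, 2, 3, 5, 6, 7, 10, 11, 15, 19} : Finset ℕ) := by
  obtain ⟨e⟩ := h
  rw [← H413.JOneSpec.exists_orderOf_iff]
  exact ⟨fun h1 => h1.congr e, fun h1 => HasOrd.congr (G := Spor.J1) h1 e.symm⟩

theorem isolated {M : Type w} [Group M] (h : Spor.IsoJ1 M) {r : ℕ} (hr : r = 7 ∨ r = 11 ∨ r = 19) : Isolated M r := by
  rw [isolated_iff]
  intro s hs hsr h1
  rw [hasOrd_iff h] at h1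
  simp only [Finset.mem_insert, Finset.mem_singleton] at h1
  have h2 := hs.two_le
  rcases hr with rfl | rfl | rfl <;> omega

theorem good {M : Type w} [Group M] [Finite M] (h : Spor.IsoJ1 M) {r : ℕ} (hr : r = 7 ∨ r = 11 ∨ r = 19) : Good M r := by
  have hd : ∀ s : ℕ, s = 7 ∨ s = 11 ∨ s = 19 → s.Prime ∧ s ∣ Nat.card M := by
    intro s hs
    have hp : s.Prime := by rcases hs with rfl | rfl | rfl <;> norm_num
    refine ⟨hp, (hasOrd_prime hp).1 ?_⟩
    rw [hasOrd_iff h]
    rcases hs with rfl | rfl | rfl <;> simp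
  have key : ∀ s : ℕ, s = 7 ∨ s = 11 ∨ s = 19 → r ≠ s → Good M r := fun s hs hrs =>
    good_of_two (hd r hr).1 (by rcases hr with rfl | rfl | rfl <;> norm_num) (hd r hr).2 (isolated h hr) (hd s hs).1
      (by rcases hs with rfl | rfl | rfl <;> norm_num) (hd s hs).2 (isolated h hs) hrs
  rcases hr with rfl | rfl | rfl
  · exact key 11 (by tauto) (by norm_num)
  · exact key 7 (by tauto) (by norm_num)
  · exact key 7 (by tauto) (by norm_num)

theorem lst_eq : lst [2, 3, 5, 7, 11, 19] [7, 11, 19] 19 23 = [.j1, .hn, .psl 3 11] := by decide +kernel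

theorem psl_three_eleven {S : Type u} [Group S] (h : IsNamed (.psl 3 11) S) : HasOrd S 22 := by
  obtain ⟨F, _, _, hF, ⟨e⟩⟩ := h.real
  have hc : CharP F 11 := by
    have h1 : Fact (Nat.Prime 11) := ⟨by norm_num⟩
    obtain ⟨p, hp⟩ := CharP.exists F
    obtain ⟨n, hpp, hn⟩ := FiniteField.card F p
    rw [hF] at hn
    have h2 : p ∣ 11 := hn ▸ dvd_pow_self p n.pos.ne'
    have h3 := (Nat.prime_dvd_prime_iff_eq hpp (by norm_num)).1 h2
    rw [← h3]; exact hp
  have h1 : H94.PG.Adj (Matrix.ProjectiveSpecialLinearGroup (Fin 3) F) 11 2 :=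
    H564.PSLn.adj_two_of_char (by norm_num) (by norm_num) (by norm_num) (by exact_mod_cast CharP.cast_eq_zero F 11)
  obtain ⟨g, hg⟩ := H564.PSLn.exists_orderOf_mul h1
  exact HasOrd.congr ⟨g, hg⟩ e.symm

theorem ident {M : Type w} [Group M] [Finite M] (hM : Spor.IsoJ1 M) (hN : NameHyp.{u}) (S : Type u) [Group S] [Finite S]
    [IsSimpleGroup S] (hna : ¬ IsMulCommutative S) (h : Sub S M) : Nonempty (S ≃* M) := by
  have hc : Nat.card M = 175560 := NotCT.Orders.j1 hM
  have hd : ∀ r ∈ [7, 11, 19], r ∣ Nat.card S := by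
    intro r hr
    exact h.dvd r (good hM (by simpa using hr))
  obtain ⟨g, hg, hgl⟩ := name_mem hN hna h (ps := [2, 3, 5, 7, 11, 19]) (rs := [7, 11, 19]) (B := 19) (N := 23) hc
    (by norm_num) (by decide) (by norm_num) (by decide)
    (fun r hr hd => mem_of_dvd_pow (k := 3) (by decide) (by decide) hr hd) hd
  rw [lst_eq] at hgl
  simp only [List.mem_cons, List.not_mem_nil, or_false] at hgl
  rcases hgl with rfl | rfl | rfl
  · obtain ⟨e⟩ : Spor.IsoJ1 S := hg.real
    obtain ⟨f⟩ := hM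
    exact ⟨e.trans f.symm⟩
  · exfalso
    have h1 : Spor.IsoHN S := hg.real
    have h2 := H94.PG.Sp.nr_hn h1 (r := 7) (by norm_num) (by norm_num) (by norm_num)
    rcases h2 with h2 | h2
    · norm_num at h2
    · obtain ⟨g, hg⟩ := H564.PSLn.exists_orderOf_mul h2
      have h3 := h.ord _ ⟨g, hg⟩
      rw [hasOrd_iff hM] at h3
      simp at h3
  · exfalso
    have h3 := h.ord _ (psl_three_eleven hg)
    rw [hasOrd_iff hM] at h3
    simp at h3

/-- **`J₁` is recognizable by spectrum.** -/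
theorem row {G : Type u} [Group G] [Finite G] {M : Type w} [Group M] [Finite M] (hN : NameHyp.{u}) (hM : Spor.IsoJ1 M)
    (h : Same G M) : Nonempty (G ≃* M) := by
  have hc : Nat.card M = 175560 := NotCT.Orders.j1 hM
  have hF : HasFrob M 19 6 := hasFrob_of_isolated (by norm_num) hc (isolated hM (by tauto)) (by norm_num) (by norm_num)
    (by norm_num) (by decide +kernel)
  refine main h (r₀ := 7) (r₁ := 19) (good hM (by tauto)) (isolated hM (by tauto)) (by norm_num) (by norm_num)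
    (by norm_num) (by rw [hc]; norm_num) (by rw [hc]; norm_num) (ident hM hN) ?_ (Or.inl ?_)
  · intro p hp hpM
    rw [hc] at hpM
    have h1 : p ∈ [2, 3, 5, 7, 11, 19] := mem_of_dvd_pow (k := 3) (by decide) (by decide) hp hpM
    simp only [List.mem_cons, List.not_mem_nil, or_false] at h1
    have key : ∀ p : ℕ, p = 2 ∨ p = 3 ∨ p = 5 → ¬ HasOrd M (6 * p) := by
      rintro p (rfl | rfl | rfl) <;> rw [hasOrd_iff hM] <;> simp
    rcases h1 with rfl | rfl | rfl | rfl | rfl | rfl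
    · exact Or.inr ⟨19, 6, by norm_num, by norm_num, hF, key 2 (by tauto)⟩
    · exact Or.inr ⟨19, 6, by norm_num, by norm_num, hF, key 3 (by tauto)⟩
    · exact Or.inr ⟨19, 6, by norm_num, by norm_num, hF, key 5 (by tauto)⟩
    · exact Or.inl (good hM (by tauto))
    · exact Or.inl (good hM (by tauto))
    · exact Or.inl (good hM (by tauto))
  · obtain ⟨e⟩ := hM
    rw [H548.Crit.card_out_congr e]
    exact S2065.result

end Cfsg.Agent.H306.Rec.JOne
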