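import Cfsg.Agent.H306.Rec.OutNew
import Cfsg.Agent.H537.CopSC
import Cfsg.Agent.NotCT.Orders
import Cfsg.Agent.H548.Crit
import Cfsg.Agent.S2067
import Cfsg.Agent.H677.J3Field

/-!
# `J₃` is recognizable by spectrum (helper306)
-/

set_option autoImplicit false
set_option linter.unusedSectionVars false

namespace Cfsg.Agent.H306.Rec.JThree

open Subgroup Cfsg Cfsg.Agent.H58.Rec Cfsg.Agent.H455.Isolated Cfsg.Agent.OrdDiv Cfsg.Agent.H436 Cfsg.Agent.H306.Rec
open Cfsg.Agent.H898.J3Cent Cfsg.Agent.J2Type.Model Cfsg.Agent.J3Type.OneClass Cfsg.Agent.J2Type.CStruct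

universe u w

theorem perm_five : ∀ σ : Equiv.Perm (Fin 5), Equiv.Perm.sign σ = 1 → σ ^ 2 = 1 ∨ σ ^ 3 = 1 ∨ σ ^ 5 = 1 := by
  decide +kernel

/-- even element orders of `J₃` divide 8, 12 or 20 -/
theorem even_order {K : Type*} [Group K] (h : Spor.IsoJ3 K) (g : K) (h2 : 2 ∣ orderOf g) :
    orderOf g ∣ 8 ∨ orderOf g ∣ 12 ∨ orderOf g ∣ 20 := by
  obtain ⟨-, hcK, hM⟩ := base h
  have hfin : Finite K := Nat.finite_of_card_ne_zero (by rw [hcK]; norm_num)
  obtain ⟨k, hk⟩ := exists_pow_orderOf h2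
  obtain ⟨-, -, Q, v, ρ, M⟩ := hM _ hk
  have hgc : g ∈ centralizer ({g ^ k} : Set K) := by
    rw [mem_centralizer_singleton_iff]
    exact ((Commute.refl g).pow_right k).eq
  let c : centralizer ({g ^ k} : Set K) := ⟨g, hgc⟩
  have hσ : ∀ n : ℕ, (ρ (c ^ n)).σ = (ρ c).σ ^ n := by
    intro n
    induction n with
    | zero => rw [pow_zero, pow_zero, map_one]; rfl
    | succ n ih =>
      have e1 : ρ (c ^ (n + 1)) = ρ (c ^ n) * ρ c := by rw [← map_mul, ← pow_succ]
      rw [e1]
      show (ρ (c ^ n)).σ * (ρ c).σ = _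
      rw [ih, ← pow_succ]
  -- fourth powers of elements of `Q` are trivial
  have hQ : ∀ d : centralizer ({g ^ k} : Set K), (ρ d).σ = 1 → d ^ 4 = 1 := by
    intro d hd
    have h4 : ρ (d * d) = 1 := by
      rw [map_mul]
      have h6 : ∀ s : SP, s.σ = 1 → s * s = 1 := by
        intro s hs
        ext i
        · show ((s.σ * s.σ) i : Fin 5).val = i.val
          rw [hs]; rfl
        · show s.s i + s.s (s.σ i) = 0
          rw [hs]
          show s.s i + s.s i = 0
          exact CharTwo.add_self_eq_zero _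
      exact h6 _ hd
    have h5 : (d * d) * (d * d) = 1 := by
      rcases (M.ker _).1 h4 with h6 | h6
      · rw [h6, one_mul]
      · rw [h6, M.z_sq]
    rw [← h5]
    simp only [pow_succ, pow_zero, one_mul, mul_assoc]
  have key : ∀ n : ℕ, (ρ c).σ ^ n = 1 → orderOf g ∣ n * 4 := by
    intro n hn
    apply orderOf_dvd_of_pow_eq_one
    have h1 := hQ (c ^ n) (by rw [hσ, hn])
    rw [← pow_mul] at h1
    exact congrArg Subtype.val h1
  rcases perm_five _ ((M.range (ρ c)).1 ⟨c, rfl⟩).1 with h1 | h1 | h1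
  · exact Or.inl (key 2 h1)
  · exact Or.inr (Or.inl (key 3 h1))
  · exact Or.inr (Or.inr (key 5 h1))

theorem no_even {K : Type*} [Group K] (h : Spor.IsoJ3 K) {n : ℕ} (h2 : 2 ∣ n) (h8 : ¬ n ∣ 8) (h12 : ¬ n ∣ 12)
    (h20 : ¬ n ∣ 20) : ¬ HasOrd K n := by
  rintro ⟨g, rfl⟩
  rcases even_order h g h2 with h1 | h1 | h1
  · exact h8 h1
  · exact h12 h1
  · exact h20 h1

theorem lst_eq : lst [2, 3, 5, 17, 19] [17, 19] 19 23 = [.j3] := by decide +kernel

section

variable {M : Type w} [Group M] [Finite M] (hM : Spor.IsoJ3 M)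

include hM

theorem iso17 : Isolated M 17 := isolated_of_sc (by norm_num) (H537.Cop.j3_17 hM)

theorem iso19 : Isolated M 19 := isolated_of_sc (by norm_num) (H537.Cop.j3_19 hM)

theorem good17 : Good M 17 := by
  have hc : Nat.card M = 50232960 := NotCT.Orders.j3 hM
  exact good_of_two (by norm_num) (by norm_num) (by rw [hc]; norm_num) (iso17 hM) (s := 19) (by norm_num) (by norm_num)
    (by rw [hc]; norm_num) (iso19 hM) (by norm_num)

theorem good19 : Good M 19 := by
  have hc : Nat.card M = 50232960 := NotCT.Orders.j3 hM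
  exact good_of_two (by norm_num) (by norm_num) (by rw [hc]; norm_num) (iso19 hM) (s := 17) (by norm_num) (by norm_num)
    (by rw [hc]; norm_num) (iso17 hM) (by norm_num)

theorem frob : HasFrob M 17 8 :=
  hasFrob_of_isolated (by norm_num) (NotCT.Orders.j3 hM) (iso17 hM) (by norm_num) (by norm_num) (by norm_num)
    (by decide +kernel)

theorem ident (hN : NameHyp.{u}) (S : Type u) [Group S] [Finite S]
    [IsSimpleGroup S] (hna : ¬ IsMulCommutative S) (h : Sub S M) : Nonempty (S ≃* M) := by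
  have hc : Nat.card M = 50232960 := NotCT.Orders.j3 hM
  have hd : ∀ r ∈ [17, 19], r ∣ Nat.card S := by
    intro r hr
    simp only [List.mem_cons, List.not_mem_nil, or_false] at hr
    rcases hr with rfl | rfl
    · exact h.dvd _ (good17 hM)
    · exact h.dvd _ (good19 hM)
  obtain ⟨g, hg, hgl⟩ := name_mem hN hna h (ps := [2, 3, 5, 17, 19]) (rs := [17, 19]) (B := 19) (N := 23) hc
    (by norm_num) (by decide) (by norm_num) (by decide)
    (fun r hr hd => mem_of_dvd_pow (k := 7) (by decide) (by decide) hr hd) hd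
  rw [lst_eq] at hgl
  simp only [List.mem_cons, List.not_mem_nil, or_false] at hgl
  subst hgl
  have h1 : Spor.IsoJ3 S := hg.real
  exact H677.J3Field.isoJ3_unique h1 hM

/-- **`J₃` is recognizable by spectrum.** -/
theorem row {G : Type u} [Group G] [Finite G] (hN : NameHyp.{u}) (h : Same G M) : Nonempty (G ≃* M) := by
  have hc : Nat.card M = 50232960 := NotCT.Orders.j3 hM
  refine main h (r₀ := 17) (r₁ := 19) (good17 hM) (iso19 hM) (by norm_num) (by norm_num)
    (by norm_num) (by rw [hc]; norm_num) (by rw [hc]; norm_num) (ident hM hN) ?_ (Or.inr ⟨?_, ?_⟩)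
  · intro p hp hpM
    rw [hc] at hpM
    have h1 : p ∈ [2, 3, 5, 17, 19] := mem_of_dvd_pow (k := 7) (by decide) (by decide) hp hpM
    simp only [List.mem_cons, List.not_mem_nil, or_false] at h1
    rcases h1 with rfl | rfl | rfl | rfl | rfl
    · exact Or.inr ⟨17, 8, by norm_num, by norm_num, frob hM,
        no_even hM (by norm_num) (by norm_num) (by norm_num) (by norm_num)⟩
    · exact Or.inr ⟨17, 8, by norm_num, by norm_num, frob hM,
        no_even hM (by norm_num) (by norm_num) (by norm_num) (by norm_num)⟩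
    · exact Or.inr ⟨17, 8, by norm_num, by norm_num, frob hM,
        no_even hM (by norm_num) (by norm_num) (by norm_num) (by norm_num)⟩
    · exact Or.inl (good17 hM)
    · exact Or.inl (good19 hM)
  · obtain ⟨F, _, _, ω, hF, hω, ⟨e⟩⟩ := hM
    rw [H548.Crit.card_out_congr e]
    exact S2067.result hF ω hω
  · rintro X _ _ S _ hidx - ⟨e⟩
    have hcS : Nat.card S = 50232960 := (Nat.card_congr e.toEquiv).trans hc
    rcases out_new S hidx (s := 17) (e := 8) (by norm_num) (by norm_num) (by rw [hcS]; norm_num) (by norm_num)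
      ((frob hM).congr e.symm) with h1 | h1
    · exact ⟨_, h1, no_even hM (by norm_num) (by norm_num) (by norm_num) (by norm_num)⟩
    · exact ⟨_, h1, no_even hM (by norm_num) (by norm_num) (by norm_num) (by norm_num)⟩

end

end Cfsg.Agent.H306.Rec.JThree
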