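import Cfsg.Agent.H306.Rec.OutNew
import Cfsg.Agent.H58.Rec.Tools
import Cfsg.Agent.H537.CopSC
import Cfsg.Agent.H94.Sp.AC
import Cfsg.Agent.H564.PSL
import Cfsg.Agent.H948.UMain
import Cfsg.Agent.NotCT.Orders
import Cfsg.Agent.H548.Crit
import Cfsg.Agent.S2062

/-!
# `M₂₂` is recognizable by spectrum (helper306)
-/

set_option autoImplicit false
set_option linter.unusedSectionVars false

namespace Cfsg.Agent.H306.Rec.MTwentyTwo

open Subgroup Cfsg Cfsg.Agent.H58.Rec Cfsg.Agent.H455.Isolated Cfsg.Agent.OrdDiv Cfsg.Agent.H436 Cfsg.Agent.H306.Rec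
open Cfsg.Agent.SporadicA.GolayBase Cfsg.Agent.SporadicA.GolayPerm
open Cfsg.Agent.SporadicStructure.M24El Cfsg.Agent.H729.Trans Cfsg.Agent.H729.MData Cfsg.Agent.H729.Count

universe u w

/-- a centralizer of exponent `p` -/
theorem sc_of_exp {G : Type*} [Group G] [Finite G] {p : ℕ} (hp : p.Prime) (hpp : ¬ p ^ 2 ∣ Nat.card G) {x : G}
    (hx : orderOf x = p) (h : ∀ z : G, Commute z x → z ^ p = 1) : H537.Cop.SC p G := by
  have hfp : Fact p.Prime := ⟨hp⟩
  refine H537.Cop.SC.of_one hp hpp hx ?_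
  have hC : IsPGroup p (centralizer ({x} : Set G)) := by
    intro z
    refine ⟨1, ?_⟩
    rw [pow_one]
    exact Subtype.ext (h z (mem_centralizer_singleton_iff.1 z.2))
  obtain ⟨k, hk⟩ := IsPGroup.iff_card.1 hC
  have h1 : k < 2 := by
    by_contra h2
    exact hpp ((pow_dvd_pow p (by omega)).trans (hk ▸ card_subgroup_dvd_card _))
  have h2 : p ∣ Nat.card (centralizer ({x} : Set G)) := by
    have := orderOf_dvd_natCard (⟨x, mem_centralizer_singleton_iff.2 rfl⟩ : centralizer ({x} : Set G))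
    rwa [Subgroup.orderOf_mk, hx] at this
  have h3 : k ≠ 0 := by
    rintro rfl
    rw [hk, pow_zero] at h2
    exact hp.one_lt.ne' (Nat.dvd_one.1 h2)
  have h4 : k = 1 := by omega
  rw [hk, h4, pow_one]

theorem sc5 : H537.Cop.SC 5 Spor.M22 := by
  obtain ⟨x, hx⟩ := H729.M22Deg.exists_el (ok_of_pre preM5) (by decide +kernel) (by decide +kernel)
  have hx5 : orderOf x = 5 := by rw [← H729.M22Deg.orderOf_inc, hx, H729.M22Deg.oM5]
  exact sc_of_exp (by norm_num) (by rw [H94.PG.Sp.card_m22]; norm_num) hx5 fun z hz =>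
    H729.PairMathieu.pow_eq_one_of_list H729.M22Deg.inc H729.M22Deg.inc_injective preM5 hx
      (fun g => H729.M22Deg.st_M (by decide +kernel) g) (n := 5) (by decide +kernel) hz

theorem sc7 : H537.Cop.SC 7 Spor.M22 := by
  obtain ⟨x, hx⟩ := H729.M22Deg.exists_el (ok_of_pre preM7) (by decide +kernel) (by decide +kernel)
  have hx5 : orderOf x = 7 := by rw [← H729.M22Deg.orderOf_inc, hx, H729.M22Deg.oM7]
  exact sc_of_exp (by norm_num) (by rw [H94.PG.Sp.card_m22]; norm_num) hx5 fun z hz =>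
    H729.PairMathieu.pow_eq_one_of_list H729.M22Deg.inc H729.M22Deg.inc_injective preM7 hx
      (fun g => H729.M22Deg.st_M (by decide +kernel) g) (n := 7) (by decide +kernel) hz

theorem lst_eq : lst [2, 3, 5, 7, 11] [5, 7, 11] 11 13 = [.alt 11, .alt 12, .m22, .mcl, .hs, .psu 6 2] := by
  decide +kernel

/-! ### elements of order 10 -/

def c11 : Equiv.Perm (Fin 11) := List.formPerm [0, 1, 2, 3, 4] * (Equiv.swap 5 6 * Equiv.swap 7 8)
def c12 : Equiv.Perm (Fin 12) := List.formPerm [0, 1, 2, 3, 4] * (Equiv.swap 5 6 * Equiv.swap 7 8)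

theorem orderOf_ten {G : Type*} [Group G] {g : G} (h : g ^ 10 = 1) (h2 : g ^ 2 ≠ 1) (h5 : g ^ 5 ≠ 1) : orderOf g = 10 := by
  have h1 : orderOf g ∣ 10 := orderOf_dvd_of_pow_eq_one h
  have h3 : orderOf g ∈ Nat.divisors 10 := Nat.mem_divisors.2 ⟨h1, by norm_num⟩
  have h4 : Nat.divisors 10 = {1, 2, 5, 10} := by decide
  rw [h4] at h3
  simp only [Finset.mem_insert, Finset.mem_singleton] at h3
  rcases h3 with h3 | h3 | h3 | h3
  · exact absurd (by rw [orderOf_eq_one_iff.1 h3, one_pow]) h2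
  · exact absurd (by rw [← h3, pow_orderOf_eq_one]) h2
  · exact absurd (by rw [← h3, pow_orderOf_eq_one]) h5
  · exact h3

theorem alt11 : HasOrd (alternatingGroup (Fin 11)) 10 := by
  refine ⟨⟨c11, by rw [Equiv.Perm.mem_alternatingGroup]; decide +kernel⟩, ?_⟩
  rw [Subgroup.orderOf_mk]
  exact orderOf_ten (by decide +kernel) (by decide +kernel) (by decide +kernel)

theorem alt12 : HasOrd (alternatingGroup (Fin 12)) 10 := by
  refine ⟨⟨c12, by rw [Equiv.Perm.mem_alternatingGroup]; decide +kernel⟩, ?_⟩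
  rw [Subgroup.orderOf_mk]
  exact orderOf_ten (by decide +kernel) (by decide +kernel) (by decide +kernel)

theorem hasOrd_of_nr {S : Type*} [Group S] {r : ℕ} (hr : r ≠ 2) (h : H94.PG.Sp.Nr S r) : HasOrd S (r * 2) := by
  rcases h with h | h
  · exact absurd h hr
  · obtain ⟨g, hg⟩ := H564.PSLn.exists_orderOf_mul h
    exact ⟨g, hg⟩

theorem psu_six {S : Type u} [Group S] (h : IsNamed (.psu 6 2) S) : HasOrd S 10 := by
  obtain ⟨F, _, _, hF, ⟨e⟩⟩ := h.real
  have h1 : H94.PG.Adj (PSU 6 F 2) 5 2 :=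
    H948.UMain.adj_two_of_lt hF (by norm_num) (i := 3) (by norm_num) (by norm_num) (by norm_num) (by decide +kernel)
  obtain ⟨g, hg⟩ := H564.PSLn.exists_orderOf_mul h1
  exact HasOrd.congr ⟨g, hg⟩ e.symm

section

variable {M : Type w} [Group M] [Finite M] (hM : Spor.IsoM22 M)

include hM

theorem iso {r : ℕ} (hr : r = 5 ∨ r = 7 ∨ r = 11) : Isolated M r := by
  rcases hr with rfl | rfl | rfl
  · obtain ⟨e⟩ := hM
    exact H306.Rec.isolated_of_sc (by norm_num) (sc5.congr e)
  · obtain ⟨e⟩ := hM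
    exact H306.Rec.isolated_of_sc (by norm_num) (sc7.congr e)
  · exact H306.Rec.isolated_of_sc (by norm_num) (H537.Cop.m22_11 hM)

theorem good {r : ℕ} (hr : r = 5 ∨ r = 7 ∨ r = 11) : Good M r := by
  have hc : Nat.card M = 443520 := NotCT.Orders.m22 hM
  have hd : ∀ s : ℕ, s = 5 ∨ s = 7 ∨ s = 11 → s.Prime ∧ s ≠ 2 ∧ s ∣ Nat.card M := by
    rintro s (rfl | rfl | rfl) <;> rw [hc] <;> norm_num
  have key : ∀ s : ℕ, s = 5 ∨ s = 7 ∨ s = 11 → r ≠ s → Good M r := fun s hs hrs =>
    good_of_two (hd r hr).1 (hd r hr).2.1 (hd r hr).2.2 (iso hM hr) (hd s hs).1 (hd s hs).2.1 (hd s hs).2.2 (iso hM hs) hrs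
  by_cases h : r = 5
  · exact key 7 (by tauto) (by omega)
  · exact key 5 (by tauto) h

theorem no_five {s : ℕ} (hs : s.Prime) (hs5 : s ≠ 5) : ¬ HasOrd M (5 * s) :=
  (isolated_iff.1 (iso hM (r := 5) (by tauto))) s hs hs5

theorem ident (hN : NameHyp.{u}) (S : Type u) [Group S] [Finite S]
    [IsSimpleGroup S] (hna : ¬ IsMulCommutative S) (h : Sub S M) : Nonempty (S ≃* M) := by
  have hc : Nat.card M = 443520 := NotCT.Orders.m22 hM
  have hten : HasOrd S 10 → False := fun h1 => no_five hM (s := 2) Nat.prime_two (by norm_num) (h.ord _ h1)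
  obtain ⟨g, hg, hgl⟩ := name_mem hN hna h (ps := [2, 3, 5, 7, 11]) (rs := [5, 7, 11]) (B := 11) (N := 13) hc
    (by norm_num) (by decide) (by norm_num) (by decide)
    (fun r hr hd => mem_of_dvd_pow (k := 7) (by decide) (by decide) hr hd)
    (fun r hr => h.dvd r (good hM (by simpa using hr)))
  rw [lst_eq] at hgl
  simp only [List.mem_cons, List.not_mem_nil, or_false] at hgl
  rcases hgl with rfl | rfl | rfl | rfl | rfl | rfl
  · obtain ⟨e⟩ := hg.real
    exact (hten (alt11.congr e.symm)).elim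
  · obtain ⟨e⟩ := hg.real
    exact (hten (alt12.congr e.symm)).elim
  · obtain ⟨e⟩ : Spor.IsoM22 S := hg.real
    obtain ⟨f⟩ := hM
    exact ⟨e.trans f.symm⟩
  · exact (hten (hasOrd_of_nr (r := 5) (by norm_num) (H94.PG.Sp.nr_mcl (show Spor.IsoMcL S from hg.real) (by norm_num)
      (by norm_num) (by norm_num)))).elim
  · exact (hten (hasOrd_of_nr (r := 5) (by norm_num) (H94.PG.Sp.nr_hs (show Spor.IsoHS S from hg.real) (by norm_num)
      (by norm_num) (by norm_num)))).elim
  · exact (hten (psu_six hg)).elim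

/-- **`M₂₂` is recognizable by spectrum.** -/
theorem row (hN : NameHyp.{u}) {G : Type u} [Group G] [Finite G] (h : Same G M) : Nonempty (G ≃* M) := by
  have hc : Nat.card M = 443520 := NotCT.Orders.m22 hM
  have hF : HasFrob M 11 5 := hasFrob_of_isolated (by norm_num) hc (iso hM (by tauto)) (by norm_num) (by norm_num)
    (by norm_num) (by decide +kernel)
  refine main h (r₀ := 11) (r₁ := 7) (good hM (by tauto)) (iso hM (by tauto)) (by norm_num) (by norm_num)
    (by norm_num) (by rw [hc]; norm_num) (by rw [hc]; norm_num) (ident hM hN) ?_ (Or.inr ⟨?_, ?_⟩)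
  · intro p hp hpM
    rw [hc] at hpM
    have h1 : p ∈ [2, 3, 5, 7, 11] := mem_of_dvd_pow (k := 7) (by decide) (by decide) hp hpM
    simp only [List.mem_cons, List.not_mem_nil, or_false] at h1
    rcases h1 with rfl | rfl | rfl | rfl | rfl
    · exact Or.inr ⟨11, 5, by norm_num, by norm_num, hF, no_five hM (by norm_num) (by norm_num)⟩
    · exact Or.inr ⟨11, 5, by norm_num, by norm_num, hF, no_five hM (by norm_num) (by norm_num)⟩
    · exact Or.inl (good hM (by tauto))
    · exact Or.inl (good hM (by tauto))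
    · exact Or.inl (good hM (by tauto))
  · obtain ⟨e⟩ := hM
    rw [H548.Crit.card_out_congr e]
    exact S2062.result
  · rintro X _ _ S _ hidx - ⟨e⟩
    have hcS : Nat.card S = 443520 := (Nat.card_congr e.toEquiv).trans hc
    rcases out_new S hidx (s := 11) (e := 5) (by norm_num) (by norm_num) (by rw [hcS]; norm_num) (by norm_num)
      (hF.congr e.symm) with h1 | h1
    · exact ⟨_, h1, by
        have := (isolated_iff.1 (iso hM (r := 11) (by tauto))) 2 Nat.prime_two (by norm_num)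
        exact this⟩
    · exact ⟨_, h1, no_five hM (s := 2) Nat.prime_two (by norm_num)⟩

end

/-- **`M₂₂` is recognizable by spectrum.** -/
theorem rec_m22 (hN : NameHyp.{u}) {G : Type u} [Group G] [Finite G] {M : Type w} [Group M] [Finite M]
    (hM : Spor.IsoM22 M) (h : Same G M) : Nonempty (G ≃* M) := row hM hN h

end Cfsg.Agent.H306.Rec.MTwentyTwo
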